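import Cfsg.Agent.H184.Cov.Kills

/-!
# Overgroups of an element of type `(3, 1)` in `GL_4(q)`, `q ≥ 3`

`over_k_four` : a subgroup of `GL(V)`, `dim V = 4`, `|K| ≥ 3`, containing an element of type `(3, 1)` contains `SL(V)`
or fixes a point or a hyperplane (for `dim V ≥ 5` this is `H184.Cov.over_k`).
-/

set_option autoImplicit false

namespace Cfsg.Agent.H855.Spr

open Module Cfsg.Agent.H184.Cov

variable {K : Type} [Field K] [Fintype K] {V : Type} [AddCommGroup V] [Module K V] [Finite V]

/-- the exceptions for `(n, q) = (4, 3)` -/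
def ThreeO (H : Subgroup (V ≃ₗ[K] V)) : Prop :=
  Fintype.card K = 3 ∧ (Nat.card H ∣ 32 * 120 ∨ ∃ N : Subgroup (V ≃ₗ[K] V), N ≤ H ∧
    (∀ h ∈ H, ∀ x ∈ N, h * x * h⁻¹ ∈ N) ∧ Nat.card N = 120)

theorem card_SL_five : Nat.card (Matrix.SpecialLinearGroup (Fin 2) (ZMod 5)) = 120 := by
  rw [Nat.card_eq_fintype_card]
  decide +kernel

variable {H : Subgroup (V ≃ₗ[K] V)}

/-- **Hering's theorem for subgroups of `GL_4(q)`, `q ≥ 3`.** -/
theorem her_four (hn : finrank K V = 4) (hq : 3 ≤ Fintype.card K) (hT : PTr H) :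
    (∀ g : V ≃ₗ[K] V, LinearMap.det (g : V →ₗ[K] V) = 1 → g ∈ H) ∨ ExtO H ∨ SympO H ∨ GamO H ∨ ThreeO H := by
  have hmain := Cfsg.Agent.H667.HerFin.action_of_main Cfsg.Agent.H50.Her.main Cfsg.Agent.H50.Her.altSix
    Cfsg.Agent.H50.Her.altSeven Cfsg.Agent.H50.Her.thirteen (K := K) (V := V) (Fintype.card K) (finrank K V) rfl rfl
    (by omega) (PH H) ?_ ?_ ?_
  · rcases hmain with h | h | h
    · -- `ΓL₁`
      obtain ⟨F, iF, iF', e, hc, h⟩ := h
      refine Or.inr (Or.inr (Or.inr (Or.inl ⟨F, iF, iF', e, hc, fun h' hh => ?_⟩)))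
      exact h (MulAction.toPermHom (V ≃ₗ[K] V) V h') ⟨h', hh, rfl⟩
    · obtain ⟨F, iF, iF', iM, φ, b, hφ, h2, hc, hb, hsem, hcase⟩ := h
      have hb0 : b ≠ 0 := by
        rintro rfl
        rw [mul_zero] at hb
        omega
      by_cases hb1 : b = 1
      · subst hb1
        rw [pow_one] at hc
        have hbij : Function.Bijective φ :=
          (Fintype.bijective_iff_injective_and_card φ).2 ⟨φ.injective, hc.symm⟩
        let Φ : K ≃+* F := RingEquiv.ofBijective φ hbij
        have hΦ : ∀ (c : K) (v : V), c • v = Φ c • v := hφ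
        have hΦ' : ∀ (c : F) (v : V), Φ.symm c • v = c • v := fun c v => by
          rw [hΦ, RingEquiv.apply_symm_apply]
        have hsymp : ∀ f : LinearMap.BilinForm F V, f.IsAlt → f.Nondegenerate →
            (∀ h ∈ PH H, ∀ σ : F ≃+* F, (∀ (c : F) (v : V), h (c • v) = σ c • h v) →
              ∃ μ : F, ∀ u v, f (h u) (h v) = μ * σ (f u v)) → SympO H := by
          intro f ha hn' hs
          refine ⟨LinearMap.mk₂ K (fun u v => Φ.symm (f u v)) (fun u u' v => by simp) (fun c u v => ?_)
            (fun u v v' => by simp) (fun c u v => ?_), fun v => ?_, fun u hu => ?_, fun h hh => ?_⟩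
          · rw [hΦ, map_smul, LinearMap.smul_apply, smul_eq_mul, map_mul, RingEquiv.symm_apply_apply, smul_eq_mul]
          · rw [hΦ, map_smul, smul_eq_mul, map_mul, RingEquiv.symm_apply_apply, smul_eq_mul]
          · rw [LinearMap.mk₂_apply, ha v, map_zero]
          · refine hn'.1 u fun v => ?_
            have := hu v
            rw [LinearMap.mk₂_apply] at this
            rwa [map_eq_zero_iff _ Φ.symm.injective] at this
          · obtain ⟨μ, hμ⟩ := hs (MulAction.toPermHom (V ≃ₗ[K] V) V h) ⟨h, hh, rfl⟩ (RingEquiv.refl F) (by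
              intro c v
              change h (c • v) = c • h v
              rw [← hΦ', map_smul, hΦ'])
            refine ⟨Φ.symm μ, fun u v => ?_⟩
            rw [LinearMap.mk₂_apply, LinearMap.mk₂_apply, ← map_mul]
            exact congrArg _ (hμ u v)
        rcases hcase with h1 | ⟨f, ha, hn', -, hs⟩ | ⟨-, -, -, f, ha, hn', hs, -⟩
        · left
          intro g hg
          have hlin : ∀ (c : F) (v : V), g (c • v) = c • g v := fun c v => by rw [← hΦ', map_smul, hΦ']
          let g' : V ≃ₗ[F] V := { g with map_smul' := hlin }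
          obtain ⟨h, hh, e⟩ := h1 g' (by
            apply Units.ext
            rw [LinearEquiv.coe_det, det_transport Φ hΦ (g : V →ₗ[K] V) (g' : V →ₗ[F] V) (fun v => rfl), hg, map_one]
            rfl)
          obtain ⟨g₁, hg₁, e'⟩ := mem_PH.1 hh
          have : g₁ = g := by
            ext v
            rw [← e', e]
            rfl
          rwa [← this]
        · exact Or.inr (Or.inr (Or.inl (hsymp f ha hn' hs)))
        · exact Or.inr (Or.inr (Or.inl (hsymp f ha hn' hs)))
      · refine Or.inr (Or.inl ⟨F, iF, iF', iM, φ, b, hφ, by omega, hc, ⟨_, by rw [mul_comm]; exact hb.symm⟩,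
          fun h hh => ?_⟩)
        exact hsem (MulAction.toPermHom (V ≃ₗ[K] V) V h) ⟨h, hh, rfl⟩
    · rcases h with ⟨h, -⟩ | ⟨h, -⟩ | ⟨-, h, -⟩ | ⟨-, h, h3⟩ | ⟨h, -⟩ | ⟨h, -⟩
      · omega
      · omega
      · omega
      · refine Or.inr (Or.inr (Or.inr (Or.inr ⟨h, ?_⟩)))
        rcases h3 with ⟨-, -, -, h4⟩ | ⟨N, hN, ⟨e⟩⟩
        · left
          rwa [card_PH] at h4
        · right
          refine ⟨(N.map (PH H).subtype).comap (MulAction.toPermHom (V ≃ₗ[K] V) V), ?_, ?_, ?_⟩
          · rintro x ⟨y, hy, hyx⟩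
            obtain ⟨g, hg, e'⟩ := y.2
            have : g = x := toPerm_injective (e'.trans hyx)
            rwa [← this]
          · rintro h hh x ⟨y, hy, hyx⟩
            let h' : PH H := ⟨MulAction.toPermHom (V ≃ₗ[K] V) V h, ⟨h, hh, rfl⟩⟩
            refine ⟨h' * y * h'⁻¹, hN.conj_mem y hy h', ?_⟩
            rw [map_mul, map_mul, map_inv, map_mul, map_mul, map_inv, hyx]
            rfl
          · rw [← card_SL_five, ← Nat.card_congr e.toEquiv]
            have h3 : N.map (PH H).subtype ≤ (MulAction.toPermHom (V ≃ₗ[K] V) V).range := by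
              rintro _ ⟨y, -, rfl⟩
              obtain ⟨g, hg, e'⟩ := y.2
              exact ⟨g, e'⟩
            have h4 : ((N.map (PH H).subtype).comap (MulAction.toPermHom (V ≃ₗ[K] V) V)).map
                (MulAction.toPermHom (V ≃ₗ[K] V) V) = N.map (PH H).subtype := by
              rw [Subgroup.map_comap_eq, inf_eq_right.2 h3]
            rw [Nat.card_congr (((N.map (PH H).subtype).comap (MulAction.toPermHom (V ≃ₗ[K] V) V)).equivMapOfInjective
              _ toPerm_injective).toEquiv, h4]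
            exact (Nat.card_congr (N.equivMapOfInjective _ (PH H).subtype_injective).toEquiv).symm
      · omega
      · omega
  · intro h hh v w
    obtain ⟨g, hg, e⟩ := mem_PH.1 hh
    rw [e, e, e, map_add]
  · intro h hh
    obtain ⟨g, hg, e⟩ := mem_PH.1 hh
    exact ⟨RingEquiv.refl K, fun c v => by rw [e, e, map_smul]; rfl⟩
  · intro v w hv hw
    obtain ⟨g, hg, c, e⟩ := hT v w hv hw
    exact ⟨MulAction.toPermHom (V ≃ₗ[K] V) V g, ⟨g, hg, rfl⟩, c, e⟩

variable {L : Type} [Field L] [Algebra K L] [Finite L]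

/-- elements of order 3 commuting with an element of order 13 of `GL_4(3)` -/
theorem no_three (h3 : Fintype.card K = 3) (hL : finrank K L = 3) {x : V ≃ₗ[K] V} {ω : Lˣ} {ν : Kˣ}
    (hω : IsGen ω) (ht : TwoT L K x ω ν) {u : V ≃ₗ[K] V} (hu3 : u ^ 3 = 1)
    (hux : u * x ^ 2 = x ^ 2 * u) : u = 1 := by
  have hfinL : Module.Finite K L := Module.Finite.of_finite
  have hK : Nat.card K = 3 := by rw [Nat.card_eq_fintype_card, h3]
  have ho : orderOf ω = 26 := by
    rw [hω.orderOf, card_units (K := K) (L := L), hL, hK]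
    norm_num
  have hν : ν ^ 2 = 1 := by
    have h1 : ν ^ Nat.card Kˣ = 1 := pow_card_eq_one'
    rwa [card_units_base, hK] at h1
  have h13 : ((ω ^ 13 : Lˣ) : L) = -1 := by
    have h1 : ((ω ^ 13 : Lˣ) : L) * ((ω ^ 13 : Lˣ) : L) = 1 := by
      rw [← Units.val_mul, ← pow_add, show 13 + 13 = orderOf ω by rw [ho], pow_orderOf_eq_one,
        Units.val_one]
    rcases mul_self_eq_one_iff.mp h1 with h2 | h2
    · exfalso
      have h4 : ω ^ 13 = 1 := Units.ext h2
      have h5 := orderOf_dvd_of_pow_eq_one h4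
      rw [ho] at h5
      omega
    · exact h2
  obtain ⟨e, he⟩ := ht
  have hy : ∀ (i : ℕ) (v : V), e (((x ^ 2) ^ i) v) = (((ω ^ (2 * i) : Lˣ) : L) * (e v).1, (e v).2) := by
    intro i v
    rw [← pow_mul, twoT_pow he (2 * i) v, pow_mul ν, hν, one_pow, Units.val_one, one_mul]
  have hy1 : ∀ v : V, e ((x ^ 2) v) = (((ω ^ 2 : Lˣ) : L) * (e v).1, (e v).2) := by
    intro v
    have := hy 1 v
    rwa [pow_one, mul_one] at this
  have hux' : ∀ v, u ((x ^ 2) v) = (x ^ 2) (u v) := fun v => LinearEquiv.congr_fun hux v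
  have hω2 : ((ω ^ 2 : Lˣ) : L) - 1 ≠ 0 := by
    rw [sub_ne_zero]
    intro h1
    have h4 : ω ^ 2 = 1 := Units.ext h1
    have h5 := orderOf_dvd_of_pow_eq_one h4
    rw [ho] at h5
    omega
  -- the two eigenspaces
  have hLP : ∀ v, (e v).2 = 0 → (e (u v)).2 = 0 := by
    intro v hv
    obtain ⟨w, hw⟩ := e.surjective ((((ω ^ 2 : Lˣ) : L) - 1)⁻¹ * (e v).1, 0)
    have h1 : v = (x ^ 2) w - w := by
      apply e.injective
      rw [map_sub, hy1, hw]
      apply Prod.ext
      · change (e v).1 = ((ω ^ 2 : Lˣ) : L) * ((((ω ^ 2 : Lˣ) : L) - 1)⁻¹ * (e v).1) -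
          (((ω ^ 2 : Lˣ) : L) - 1)⁻¹ * (e v).1
        rw [← sub_one_mul, ← mul_assoc, mul_inv_cancel₀ hω2, one_mul]
      · change (e v).2 = 0 - 0
        rw [hv, sub_zero]
    rw [h1, map_sub, hux', map_sub, hy1]
    change (e (u w)).2 - (e (u w)).2 = 0
    exact sub_self _
  have hKP : ∀ v, (e v).1 = 0 → (e (u v)).1 = 0 := by
    intro v hv
    have h1 : (x ^ 2) v = v := by
      apply e.injective
      rw [hy1, hv, mul_zero]
      exact Prod.ext hv.symm rfl
    have h2 := hux' v
    rw [h1] at h2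
    have h4 : (e (u v)).1 = ((ω ^ 2 : Lˣ) : L) * (e (u v)).1 := by
      conv_lhs => rw [h2, hy1]
    have h5 : (((ω ^ 2 : Lˣ) : L) - 1) * (e (u v)).1 = 0 := by
      rw [sub_one_mul, ← h4, sub_self]
    exact (mul_eq_zero.mp h5).resolve_left hω2
  -- a nonzero fixed vector of `L`
  obtain ⟨a, ha, ha0, hua⟩ : ∃ a, (e a).2 = 0 ∧ a ≠ 0 ∧ u a = a := by
    let W : Type := {v : V // (e v).2 = 0}
    let f : W → W := fun v => ⟨u v, hLP v v.2⟩
    have hf : ∀ v, f^[3] v = v := by
      intro v
      apply Subtype.ext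
      change u (u (u (v : V))) = v
      exact LinearEquiv.congr_fun hu3 v
    have hc : Nat.card W = 27 := by
      have e1 : W ≃ L :=
        { toFun := fun v => (e v).1
          invFun := fun b => ⟨e.symm (b, 0), by rw [LinearEquiv.apply_symm_apply]⟩
          left_inv := fun v => by
            apply Subtype.ext
            apply e.injective
            rw [LinearEquiv.apply_symm_apply]
            exact Prod.ext rfl v.2.symm
          right_inv := fun b => by
            change (e (e.symm (b, 0))).1 = b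
            rw [LinearEquiv.apply_symm_apply] }
      rw [Nat.card_congr e1, card_field (K := K) (L := L), hL, hK]
      norm_num
    have hm := modEq_fix f (by norm_num : Nat.Prime 3) hf
    rw [hc] at hm
    have h0 : 0 < Nat.card {v // f v = v} := by
      have : Nonempty {v // f v = v} := ⟨⟨⟨0, by rw [map_zero]; rfl⟩, Subtype.ext (map_zero u)⟩⟩
      exact Nat.card_pos
    have h1 : 1 < Nat.card {v // f v = v} := by
      have : Nat.card {v // f v = v} % 3 = 0 := hm
      omega
    obtain ⟨v, w, hvw⟩ := (Finite.one_lt_card_iff_nontrivial.mp h1).exists_pair_ne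
    by_cases hv : ((v : W) : V) = 0
    · refine ⟨(w : W), (w : W).2, ?_, congrArg Subtype.val w.2⟩
      intro hw
      exact hvw (Subtype.ext (Subtype.ext (hv.trans hw.symm)))
    · exact ⟨(v : W), (v : W).2, hv, congrArg Subtype.val v.2⟩
  have ha1 : (e a).1 ≠ 0 := by
    intro h1
    apply ha0
    rw [← LinearEquiv.map_eq_zero_iff e]
    exact Prod.ext h1 ha
  -- `u` is trivial on `L`
  have hpow : ∀ i : ℕ, u (((x ^ 2) ^ i) a) = ((x ^ 2) ^ i) a := by
    intro i
    induction i with
    | zero => exact hua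
    | succ i ih =>
      rw [pow_succ']
      change u ((x ^ 2) (((x ^ 2) ^ i) a)) = (x ^ 2) (((x ^ 2) ^ i) a)
      rw [hux', ih]
  have huL : ∀ v, (e v).2 = 0 → u v = v := by
    intro v hv
    by_cases hv1 : (e v).1 = 0
    · have : v = 0 := by
        rw [← LinearEquiv.map_eq_zero_iff e]
        exact Prod.ext hv1 hv
      rw [this, map_zero]
    obtain ⟨j, hj⟩ := hω.exists_pow (Units.mk0 _ hv1 * (Units.mk0 _ ha1)⁻¹)
    have hj' : ((ω ^ j : Lˣ) : L) * (e a).1 = (e v).1 := by
      rw [hj, Units.val_mul, Units.val_inv_eq_inv_val, Units.val_mk0, Units.val_mk0, mul_assoc,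
        inv_mul_cancel₀ ha1, mul_one]
    rcases Nat.even_or_odd' j with ⟨i, rfl | rfl⟩
    · have h1 : v = ((x ^ 2) ^ i) a := by
        apply e.injective
        rw [hy, hj', ha]
        exact Prod.ext rfl hv
      rw [h1, hpow]
    · have h1 : v = -(((x ^ 2) ^ (i + 7)) a) := by
        apply e.injective
        rw [map_neg, hy]
        apply Prod.ext
        · change (e v).1 = -(((ω ^ (2 * (i + 7)) : Lˣ) : L) * (e a).1)
          rw [← hj', show 2 * (i + 7) = (2 * i + 1) + 13 by ring, pow_add ω (2 * i + 1) 13,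
            Units.val_mul, h13]
          ring
        · change (e v).2 = -(e a).2
          rw [hv, ha, neg_zero]
      rw [h1, map_neg, hpow]
  -- `u` is trivial on the line
  have huK : ∀ v, (e v).1 = 0 → u v = v := by
    intro v hv
    by_cases hv0 : v = 0
    · rw [hv0, map_zero]
    have hv2 : (e v).2 ≠ 0 := by
      intro h1
      apply hv0
      rw [← LinearEquiv.map_eq_zero_iff e]
      exact Prod.ext hv h1
    obtain ⟨c, hc⟩ : ∃ c : K, u v = c • v := by
      refine ⟨(e (u v)).2 * ((e v).2)⁻¹, ?_⟩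
      apply e.injective
      rw [map_smul]
      apply Prod.ext
      · rw [hKP v hv]
        change 0 = _ • (e v).1
        rw [hv, smul_zero]
      · change (e (u v)).2 = ((e (u v)).2 * ((e v).2)⁻¹) • (e v).2
        rw [smul_eq_mul, mul_assoc, inv_mul_cancel₀ hv2, mul_one]
    have h1 : (c ^ 3) • v = v := by
      have h4 : u (u (u v)) = v := LinearEquiv.congr_fun hu3 v
      rw [hc, map_smul, hc, map_smul, map_smul, hc, smul_smul, smul_smul] at h4
      rw [show c ^ 3 = c * c * c by ring]
      exact h4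
    have h4 : c ^ 3 = c := by
      have := FiniteField.pow_card c
      rwa [h3] at this
    rw [h4] at h1
    rw [hc, h1]
  apply LinearEquiv.ext
  intro v
  have h1 : v = e.symm ((e v).1, 0) + e.symm (0, (e v).2) := by
    apply e.injective
    rw [map_add, LinearEquiv.apply_symm_apply, LinearEquiv.apply_symm_apply]
    exact Prod.ext (by change _ = _ + (0 : L); rw [add_zero]) (by change _ = (0 : K) + _; rw [zero_add])
  rw [h1, map_add, huL _ (by rw [LinearEquiv.apply_symm_apply]),
    huK _ (by rw [LinearEquiv.apply_symm_apply])]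
  rfl

/-- the exceptions for `(n, q) = (4, 3)` do not occur -/
theorem three_kill (h : ThreeO H) (hL : finrank K L = 3) {x : V ≃ₗ[K] V} (hx : x ∈ H) {ω : Lˣ}
    {ν : Kˣ} (hω : IsGen ω) (ht : TwoT L K x ω ν) : False := by
  obtain ⟨h3, h⟩ := h
  have hfinG : Finite (V ≃ₗ[K] V) := DFunLike.finite _
  have hK : Nat.card K = 3 := by rw [Nat.card_eq_fintype_card, h3]
  have ho : orderOf ω = 26 := by
    rw [hω.orderOf, card_units (K := K) (L := L), hL, hK]
    norm_num
  have h26 : (x ^ 2) ^ 13 = 1 := by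
    rw [← pow_mul, ht.pow_eq_one_iff, show 2 * 13 = orderOf ω by rw [ho]]
    refine ⟨pow_orderOf_eq_one ω, ?_⟩
    have h1 : ν ^ Nat.card Kˣ = 1 := pow_card_eq_one'
    rw [card_units_base, hK] at h1
    rw [ho, show 26 = 2 * 13 by norm_num, pow_mul, h1, one_pow]
  rcases h with h | ⟨N, hNH, hnor, hN⟩
  · have h1 : orderOf x ∣ 32 * 120 := by
      refine dvd_trans ?_ h
      rw [← Subgroup.orderOf_mk x hx]
      exact orderOf_dvd_natCard _
    have h2 : ω ^ orderOf x = 1 := (ht.pow_eq_one_iff.1 (pow_orderOf_eq_one x)).1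
    have h4 := (orderOf_dvd_of_pow_eq_one h2).trans h1
    rw [ho] at h4
    omega
  · -- the centralizer of `y = x²` in `N`
    obtain ⟨y, hy⟩ : ∃ y, y = x ^ 2 := ⟨_, rfl⟩
    have hyH : y ∈ H := by rw [hy]; exact H.pow_mem hx 2
    let f : N → N := fun n => ⟨y * n * y⁻¹, hnor y hyH n n.2⟩
    have hf : ∀ n, f^[13] n = n := by
      have h1 : ∀ (k : ℕ) (n : N), ((f^[k] n : N) : V ≃ₗ[K] V) = y ^ k * n * (y ^ k)⁻¹ := by
        intro k
        induction k with
        | zero => intro n; simp
        | succ k ih =>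
          intro n
          rw [Function.iterate_succ_apply, ih]
          change y ^ k * (y * n * y⁻¹) * (y ^ k)⁻¹ = _
          rw [pow_succ]
          group
      intro n
      apply Subtype.ext
      rw [h1, hy, h26]
      group
    have hm := modEq_fix f (by norm_num : Nat.Prime 13) hf
    rw [hN] at hm
    let C : Subgroup N := (Subgroup.centralizer {y}).subgroupOf N
    have hC : Nat.card {n // f n = n} = Nat.card C := by
      apply Nat.card_congr
      refine Equiv.subtypeEquivRight fun n => ?_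
      rw [Subgroup.mem_subgroupOf, Subgroup.mem_centralizer_singleton_iff]
      constructor
      · intro h1
        have h2 : y * n * y⁻¹ = n := congrArg Subtype.val h1
        rw [mul_inv_eq_iff_eq_mul] at h2
        exact h2.symm
      · intro h1
        apply Subtype.ext
        change y * n * y⁻¹ = n
        rw [mul_inv_eq_iff_eq_mul]
        exact h1.symm
    rw [hC] at hm
    have hd : Nat.card C ∣ 120 := hN ▸ C.card_subgroup_dvd_card
    have h3C : 3 ∣ Nat.card C := by
      have key : ∀ d ∈ Nat.divisors 120, d % 13 = 120 % 13 → 3 ∣ d := by decide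
      exact key _ (Nat.mem_divisors.mpr ⟨hd, by norm_num⟩) hm
    have : Fact (Nat.Prime 3) := ⟨by norm_num⟩
    obtain ⟨u, hu⟩ := exists_prime_orderOf_dvd_card' 3 h3C
    have hu3 : ((u : N) : V ≃ₗ[K] V) ^ 3 = 1 := by
      have h1 : u ^ 3 = 1 := by rw [← hu]; exact pow_orderOf_eq_one u
      have h2 := congrArg (fun z : C => ((z : N) : V ≃ₗ[K] V)) h1
      simpa using h2
    have huy : ((u : N) : V ≃ₗ[K] V) * y = y * (u : N) :=
      Subgroup.mem_centralizer_singleton_iff.mp (Subgroup.mem_subgroupOf.mp u.2)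
    rw [hy] at huy
    have h1 := no_three h3 hL hω ht hu3 huy
    have h2 : u = 1 := Subtype.ext (Subtype.ext h1)
    rw [h2, orderOf_one] at hu
    omega

/-- **Overgroups of an element of type `(3, 1)` in `GL_4(q)`, `q ≥ 3`.** -/
theorem over_k_four (hn : finrank K V = 4) (hq : 3 ≤ Fintype.card K) {x : V ≃ₗ[K] V} (hx : x ∈ H)
    {ω : Lˣ} {ν : Kˣ} (hω : IsGen ω) (ht : TwoT L K x ω ν) :
    (∀ g : V ≃ₗ[K] V, LinearMap.det (g : V →ₗ[K] V) = 1 → g ∈ H) ∨ Red H := by
  have hfin : Module.Finite K V := Module.Finite.of_finite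
  have hfinL : Module.Finite K L := Module.Finite.of_finite
  have hdim : finrank K V = finrank K L + 1 := by
    obtain ⟨e, -⟩ := ht
    rw [e.finrank_eq, Module.finrank_prod, finrank_self]
  have hnt : Nontrivial V := Module.nontrivial_of_finrank_pos (R := K) (by omega)
  have hq1 : 2 ≤ Nat.card K := one_lt_q
  have hk1 : ∀ c : Kˣ, c ^ (Nat.card K - 1) = 1 := by
    intro c
    rw [← card_units_base]
    exact pow_card_eq_one'
  rcases kside hx hω ht (by omega) with h | h | h
  rotate_left
  · exact Or.inr (Or.inl h)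
  · exact Or.inr (Or.inr h)
  rcases her_four hn hq h with h | h | h | h | h
  · exact Or.inl h
  · exfalso
    obtain ⟨b, hb2, hbn, hE⟩ := h.exists
    have h1 : b ∣ finrank K K := by
      refine ext_dvd_pow hE hx ht (i := Nat.card K - 1) (fun h1 => ?_) (hk1 ν)
      have h2 := hω.dvd_of_pow (K := K) h1
      exact num_gam_one hq1 (by omega) (by omega) (by rw [← hdim]; exact Nat.le_of_dvd (by omega) hbn) h2
    rw [finrank_self] at h1
    have := Nat.le_of_dvd one_pos h1
    omega
  · exact absurd (symp_two h hx hω ht (by omega)) id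
  · exfalso
    have h1 : TwoT L K (x ^ (Nat.card K - 1)) (ω ^ (Nat.card K - 1)) 1 := by
      have := ht.pow (Nat.card K - 1)
      rwa [hk1] at this
    obtain ⟨t, h2, h3⟩ := gam_two h (H.pow_mem hx _) h1 (fun h2 => by
      have h3 := hω.dvd_of_pow (K := K) h2
      exact num_gam_one (t := 1) hq1 (k := finrank K L) (by omega) (by omega) (by omega) (by rwa [mul_one]))
    rw [finrank_self, one_mul] at h2
    rw [← pow_mul] at h3
    exact num_gam_one hq1 (by omega) (by omega) (by omega) (hω.dvd_of_pow (K := K) h3)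
  · exact (three_kill h (by omega) hx hω ht).elim

end Cfsg.Agent.H855.Spr
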