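import Cfsg.Agent.LThreeFour.Outer
import Cfsg.Agent.LThreeFour.Exists
import Cfsg.Agent.H424.Spr.Core
import Cfsg.Agent.ClassicalGeometry.AutPSL.Auto
import Cfsg.Agent.S0255
import Cfsg.Agent.S0256
import Cfsg.Agent.H424.Spr.AltC
import Cfsg.Agent.H947.Spr.Psl2

/-!
# 3/2-generation of `L₃(4)`, `L₃(2) ≅ L₂(7)` and `L₄(2) ≅ A₈` (helper855)

Every automorphism `≠ 1` of `L₃(4)` has a power of prime order; up to conjugacy in the automorphism group it is one of
8 involutory automorphisms (`Dat.inv_class`), a power of an explicit inner automorphism of order 5 or 7, or one of the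
26 elements `≠ 1` of an explicit Sylow 3-subgroup of order 27. For each of them there is an explicit element `x` such
that `x, a(x), a²(x)` generate; the words are checked with matrices over the field with four elements.
-/

set_option autoImplicit false
set_option linter.unusedVariables false

namespace Cfsg.Agent.H855.Spr.L34

open Matrix
open Cfsg.Agent.SporadicA.FieldFour
open Cfsg.Agent.LThreeFour
open Cfsg.Agent.ONType.Psl
open Cfsg.Agent.ONType.OuterL (rv rv_ne rv_rv)
open Cfsg.Agent.H424.Spr

/-! ### Words in root elements -/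

/-- the roots -/
inductive Rt | r01 | r02 | r12 | r10 | r20 | r21
  deriving DecidableEq

/-- row -/
def Rt.i : Rt → Fin 3
  | .r01 => 0 | .r02 => 0 | .r12 => 1 | .r10 => 1 | .r20 => 2 | .r21 => 2

/-- column -/
def Rt.j : Rt → Fin 3
  | .r01 => 1 | .r02 => 2 | .r12 => 2 | .r10 => 0 | .r20 => 0 | .r21 => 1

/-- graph automorphism -/
def Rt.flip : Rt → Rt
  | .r01 => .r12 | .r02 => .r02 | .r12 => .r01 | .r10 => .r21 | .r20 => .r20 | .r21 => .r10

/-- letters -/
abbrev Lt : Type := Rt × F4

/-- value in `SL₃(4)` -/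
def evS (l : List Lt) : SL3 := (l.map fun e => T e.1.i e.1.j e.2).prod

/-- value in `PSL₃(4)` -/
def ev (l : List Lt) : PSL3 := (l.map fun e => t e.1.i e.1.j e.2).prod

theorem ev_mk (l : List Lt) : ev l = (QuotientGroup.mk (evS l) : PSL3) := by
  induction l with
  | nil => rfl
  | cons e l ih =>
    have h1 : ev (e :: l) = t e.1.i e.1.j e.2 * ev l := rfl
    have h2 : evS (e :: l) = T e.1.i e.1.j e.2 * evS l := rfl
    rw [h1, h2, ih]
    rfl

theorem ev_append (l l' : List Lt) : ev (l ++ l') = ev l * ev l' := by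
  unfold ev
  rw [List.map_append, List.prod_append]

theorem ev_cons (e : Lt) (l : List Lt) : ev (e :: l) = t e.1.i e.1.j e.2 * ev l := rfl

theorem ev_nil : ev [] = 1 := rfl

theorem ij_ne (r : Rt) : r.i ≠ r.j := by cases r <;> decide

theorem t_sq (e : Lt) : t e.1.i e.1.j e.2 * t e.1.i e.1.j e.2 = 1 := datPSL.x_sq _ _ (ij_ne e.1) _

theorem ev_reverse (l : List Lt) : ev l.reverse = (ev l)⁻¹ := by
  induction l with
  | nil => simp [ev_nil]
  | cons e l ih =>
    rw [List.reverse_cons, ev_append, ih, ev_cons e [], ev_nil, mul_one, ev_cons e l, _root_.mul_inv_rev,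
      inv_eq_of_mul_eq_one_left (t_sq e)]

/-! ### Evaluation of matrices -/

/-- matrices by their entries -/
structure M9 : Type where
  (a0 a1 a2 b0 b1 b2 c0 c1 c2 : F4)

/-- the matrix -/
def M9.toMat (m : M9) : Matrix (Fin 3) (Fin 3) F4 := !![m.a0, m.a1, m.a2; m.b0, m.b1, m.b2; m.c0, m.c1, m.c2]

/-- the identity -/
def M9.one : M9 := ⟨.o, .z, .z, .z, .o, .z, .z, .z, .o⟩

theorem toMat_one : M9.one.toMat = 1 := by
  decide +kernel

/-- right multiplication with a root element -/
def ap (m : M9) (e : Lt) : M9 :=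
  match e.1 with
  | .r01 => { m with a1 := m.a1.add (m.a0.mul e.2), b1 := m.b1.add (m.b0.mul e.2), c1 := m.c1.add (m.c0.mul e.2) }
  | .r02 => { m with a2 := m.a2.add (m.a0.mul e.2), b2 := m.b2.add (m.b0.mul e.2), c2 := m.c2.add (m.c0.mul e.2) }
  | .r12 => { m with a2 := m.a2.add (m.a1.mul e.2), b2 := m.b2.add (m.b1.mul e.2), c2 := m.c2.add (m.c1.mul e.2) }
  | .r10 => { m with a0 := m.a0.add (m.a1.mul e.2), b0 := m.b0.add (m.b1.mul e.2), c0 := m.c0.add (m.c1.mul e.2) }
  | .r20 => { m with a0 := m.a0.add (m.a2.mul e.2), b0 := m.b0.add (m.b2.mul e.2), c0 := m.c0.add (m.c2.mul e.2) }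
  | .r21 => { m with a1 := m.a1.add (m.a2.mul e.2), b1 := m.b1.add (m.b2.mul e.2), c1 := m.c1.add (m.c2.mul e.2) }

theorem tm_eq (r : Rt) (u : F4) : tm r.i r.j u = (ap M9.one (r, u)).toMat := by
  revert u
  cases r <;> decide +kernel

theorem toMat_ap (m : M9) (e : Lt) : (ap m e).toMat = m.toMat * tm e.1.i e.1.j e.2 := by
  obtain ⟨r, u⟩ := e
  rw [tm_eq]
  obtain ⟨a0, a1, a2, b0, b1, b2, c0, c1, c2⟩ := m
  have h0 : ∀ x : F4, F4.z.add (F4.z.mul x) = F4.z := by decide
  have h1 : ∀ x : F4, F4.z.add (F4.o.mul x) = x := by decide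
  have ha : ∀ x y : F4, x.add y = x + y := fun _ _ => rfl
  have hm : ∀ x y : F4, x.mul y = x * y := fun _ _ => rfl
  have hz : (F4.z : F4) = 0 := rfl
  have ho : (F4.o : F4) = 1 := rfl
  cases r <;> (ext i j; fin_cases i <;> fin_cases j <;>
    simp [ap, M9.toMat, M9.one, Matrix.mul_apply, Fin.sum_univ_three, ha, hm, hz, ho] <;> ring)

theorem toMat_foldl (l : List Lt) (m : M9) : (l.foldl ap m).toMat = m.toMat * (evS l).1 := by
  induction l generalizing m with
  | nil =>
    show m.toMat = m.toMat * 1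
    rw [mul_one]
  | cons e l ih =>
    have h2 : (evS (e :: l)).1 = tm e.1.i e.1.j e.2 * (evS l).1 := rfl
    rw [List.foldl_cons, ih, toMat_ap, h2, mul_assoc]

/-- forced evaluation -/
def fc (x : F4) (k : F4 → Bool) : Bool :=
  match x with
  | .z => k .z
  | .o => k .o
  | .w => k .w
  | .v => k .v

theorem fc_eq (x : F4) (k : F4 → Bool) : fc x k = k x := by cases x <;> rfl

/-- forced evaluation of a matrix -/
def fm (m : M9) (k : M9 → Bool) : Bool :=
  fc m.a0 fun a0 => fc m.a1 fun a1 => fc m.a2 fun a2 => fc m.b0 fun b0 => fc m.b1 fun b1 => fc m.b2 fun b2 =>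
    fc m.c0 fun c0 => fc m.c1 fun c1 => fc m.c2 fun c2 => k ⟨a0, a1, a2, b0, b1, b2, c0, c1, c2⟩

theorem fm_eq (m : M9) (k : M9 → Bool) : fm m k = k m := by
  unfold fm
  simp only [fc_eq]

/-- evaluation of a word -/
def run : List Lt → M9 → (M9 → Bool) → Bool
  | [], m, k => k m
  | e :: l, m, k => fm (ap m e) fun m' => run l m' k

theorem run_eq (l : List Lt) (m : M9) (k : M9 → Bool) : run l m k = k (l.foldl ap m) := by
  induction l generalizing m with
  | nil => rfl
  | cons e l ih =>
    show fm (ap m e) (fun m' => run l m' k) = _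
    rw [fm_eq, ih]
    rfl

/-- equality of elements -/
def fb : F4 → F4 → Bool
  | .z, .z => true
  | .o, .o => true
  | .w, .w => true
  | .v, .v => true
  | _, _ => false

theorem fb_eq : ∀ {x y : F4}, fb x y = true → x = y := by decide

/-- `m = s m'` -/
def eqs (s : F4) (m m' : M9) : Bool :=
  fb m.a0 (s.mul m'.a0) && fb m.a1 (s.mul m'.a1) && fb m.a2 (s.mul m'.a2) && fb m.b0 (s.mul m'.b0) &&
    fb m.b1 (s.mul m'.b1) && fb m.b2 (s.mul m'.b2) && fb m.c0 (s.mul m'.c0) && fb m.c1 (s.mul m'.c1) &&
    fb m.c2 (s.mul m'.c2)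

theorem eqs_eq {s : F4} {m m' : M9} (h : eqs s m m' = true) : m.toMat = s • m'.toMat := by
  simp only [eqs, Bool.and_eq_true] at h
  obtain ⟨⟨⟨⟨⟨⟨⟨⟨h1, h2⟩, h3⟩, h4⟩, h5⟩, h6⟩, h7⟩, h8⟩, h9⟩ := h
  obtain ⟨a0, a1, a2, b0, b1, b2, c0, c1, c2⟩ := m
  obtain ⟨a0', a1', a2', b0', b1', b2', c0', c1', c2'⟩ := m'
  have e1 := fb_eq h1
  have e2 := fb_eq h2
  have e3 := fb_eq h3
  have e4 := fb_eq h4
  have e5 := fb_eq h5
  have e6 := fb_eq h6
  have e7 := fb_eq h7
  have e8 := fb_eq h8
  have e9 := fb_eq h9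
  ext i j
  fin_cases i <;> fin_cases j <;> assumption

/-- comparison of two words -/
def chk (l l' : List Lt) : Bool :=
  run l M9.one fun m => run l' M9.one fun m' => eqs .o m m' || eqs .w m m' || eqs .v m m'

theorem cube : ∀ s : F4, s ≠ 0 → s ^ 3 = 1 := by decide

theorem mk_eq {A B : SL3} {s : F4} (hs : s ≠ 0) (h : A.1 = s • B.1) :
    (QuotientGroup.mk A : PSL3) = QuotientGroup.mk B := by
  have hs3 : s ^ 3 = 1 := cube s hs
  have hd : (Matrix.scalar (Fin 3) s).det = 1 := by
    rw [Matrix.scalar_apply, det_diagonal]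
    simp [hs3]
  let C : SL3 := ⟨Matrix.scalar (Fin 3) s, hd⟩
  have h1 : A = B * C := by
    apply Subtype.ext
    have h2 : (B * C).1 = B.1 * Matrix.scalar (Fin 3) s := rfl
    rw [h2, h, Matrix.scalar_apply, ← smul_one_eq_diagonal, Matrix.mul_smul, mul_one]
  have h3 : (QuotientGroup.mk C : PSL3) = 1 := by
    rw [QuotientGroup.eq_one_iff]
    refine Matrix.SpecialLinearGroup.mem_center_iff.2 ⟨s, ?_, rfl⟩
    rw [Fintype.card_fin]
    exact hs3
  have h4 : (QuotientGroup.mk (B * C) : PSL3) = QuotientGroup.mk B * QuotientGroup.mk C := rfl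
  rw [h1, h4, h3, mul_one]

theorem ev_eq {l l' : List Lt} (h : chk l l' = true) : ev l = ev l' := by
  unfold chk at h
  rw [run_eq, run_eq] at h
  simp only [Bool.or_eq_true] at h
  have h1 := toMat_foldl l M9.one
  have h2 := toMat_foldl l' M9.one
  rw [toMat_one, one_mul] at h1 h2
  rw [ev_mk, ev_mk]
  rcases h with (h | h) | h
  · have h3 := eqs_eq h
    rw [h1, h2] at h3
    exact mk_eq (by decide) h3
  · have h3 := eqs_eq h
    rw [h1, h2] at h3
    exact mk_eq (by decide) h3
  · have h3 := eqs_eq h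
    rw [h1, h2] at h3
    exact mk_eq (by decide) h3

/-! ### Words in given elements -/

/-- a word in the elements `ev (L k)` -/
def fl (L : ℕ → List Lt) (w : List (ℕ × Bool)) : List Lt :=
  w.flatMap fun p => if p.2 then (L p.1).reverse else L p.1

theorem fl_mem {L : ℕ → List Lt} {K : Subgroup PSL3} (h : ∀ k, ev (L k) ∈ K) (w : List (ℕ × Bool)) : ev (fl L w) ∈ K := by
  induction w with
  | nil => exact K.one_mem
  | cons p w ih =>
    have h1 : fl L (p :: w) = (if p.2 then (L p.1).reverse else L p.1) ++ fl L w := rfl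
    rw [h1, ev_append]
    refine K.mul_mem ?_ ih
    split
    · rw [ev_reverse]
      exact K.inv_mem (h _)
    · exact h _

/-- the torus element -/
def hl : List Lt := [(.r01, .w), (.r10, .v), (.r01, .w), (.r01, .o), (.r10, .o), (.r01, .o)]

/-- the cyclic permutation matrix -/
def cl : List Lt := [(.r01, .o), (.r10, .o), (.r01, .o), (.r12, .o), (.r21, .o), (.r12, .o)]

/-- generators -/
def G : ℕ → List Lt
  | 0 => [(.r01, .o)]
  | 1 => hl
  | _ => cl

/-- certificates -/
structure Cert : Type where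
  lx : List Lt
  wx : List (ℕ × Bool)
  wh : List (ℕ × Bool)
  wc : List (ℕ × Bool)

/-- words for the root elements -/
def gw : Rt → F4 → List (ℕ × Bool)
  | .r01, .o => [(0, false)]
  | .r01, .w => [(1, true), (0, false), (1, false)]
  | .r01, .v => [(1, false), (0, false), (1, true)]
  | .r02, .o => [(0, false), (2, false), (0, false), (2, true), (0, false), (2, false), (0, false), (2, true)]
  | .r02, .w => [(1, false), (0, false), (2, false), (0, false), (2, true), (0, false), (2, false), (0, false), (1,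
      true), (2, true)]
  | .r02, .v => [(1, true), (0, false), (2, false), (0, false), (2, true), (0, false), (2, false), (0, false), (1,
      false), (2, true)]
  | .r10, .o => [(2, false), (0, false), (2, false), (0, false), (2, true), (0, false), (2, false), (0, false), (2,
      false)]
  | .r10, .w => [(1, false), (2, false), (0, false), (2, false), (0, false), (2, true), (0, false), (2, false), (0,
      false), (1, true), (2, false)]
  | .r10, .v => [(1, true), (2, false), (0, false), (2, false), (0, false), (2, true), (0, false), (2, false), (0,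
      false), (1, false), (2, false)]
  | .r12, .o => [(2, false), (0, false), (2, true)]
  | .r12, .w => [(1, true), (2, false), (0, false), (1, false), (2, true)]
  | .r12, .v => [(1, false), (2, false), (0, false), (1, true), (2, true)]
  | .r20, .o => [(2, true), (0, false), (2, false)]
  | .r20, .w => [(1, true), (2, true), (0, false), (1, false), (2, false)]
  | .r20, .v => [(1, false), (2, true), (0, false), (1, true), (2, false)]
  | .r21, .o => [(0, false), (2, true), (0, false), (2, false), (0, false), (2, true), (0, false), (2, false)]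
  | .r21, .w => [(1, false), (0, false), (2, true), (0, false), (2, false), (0, false), (2, true), (0, false), (1,
      true), (2, false)]
  | .r21, .v => [(1, true), (0, false), (2, true), (0, false), (2, false), (0, false), (2, true), (0, false), (1,
      false), (2, false)]
  | _, _ => []

/-- certificates for the outer involutions -/
def cert2 : Ty → Cert
  | (true, false, 0) => ⟨[(.r10, .o), (.r21, .w), (.r02, .w)], [(0, true), (1, false), (0, true), (1, false)], [(1,
      false), (0, false), (0, false), (1, true), (0, false), (1, true), (1, true), (0, true)], [(0, false), (1,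
      true), (0, false), (1, false), (1, false), (0, true), (1, false), (0, false), (0, false)]⟩
  | (true, false, 1) => ⟨[(.r01, .o), (.r20, .w), (.r12, .w)], [(0, false), (0, false), (1, true), (0, true), (1,
      false), (0, true), (1, true), (0, true), (1, true), (0, false), (1, false)], [(0, true), (1, true), (0,
      true), (1, false), (0, true), (1, false), (0, false), (1, false)], [(1, true), (0, false), (1, false), (1,
      false), (0, false), (1, false), (0, true), (1, true), (0, true), (0, true)]⟩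
  | (true, false, 2) => ⟨[(.r01, .o), (.r20, .w), (.r12, .w)], [(0, true), (0, true), (1, true), (1, true), (0,
      true), (1, true), (1, true), (0, false), (1, true)], [(1, false), (0, true), (0, true), (1, false), (1,
      false), (0, true)], [(1, false), (1, false), (0, true), (0, true), (1, true), (0, true), (1, true), (1,
      true), (0, false), (0, false)]⟩
  | (false, true, 0) => ⟨[(.r02, .w), (.r10, .v)], [(1, false), (1, false)], [(0, false), (1, true), (0, false),
      (0, false), (1, false), (0, false), (1, true), (0, false), (1, false), (0, false), (1, false)], [(0, false),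
      (0, false), (1, false), (0, false), (1, true), (0, false), (0, false), (1, false), (1, false), (0, false),
      (1, true), (0, true)]⟩
  | (false, true, 1) => ⟨[(.r21, .o), (.r02, .o)], [(0, false), (0, false)], [(0, false), (1, false), (0, false),
      (1, false), (0, true), (1, false), (0, false), (1, false), (1, false), (0, true), (1, false)], [(1, false),
      (1, false), (0, false), (0, false), (1, false), (0, true), (1, true), (0, true), (1, true), (0, false), (1,
      false)]⟩
  | (false, true, 2) => ⟨[(.r21, .o), (.r02, .o)], [(0, false), (0, false)], [(0, true), (1, false), (0, false),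
      (0, false), (1, true), (0, true), (1, false), (0, true), (1, true), (0, true), (1, true)], [(1, false), (1,
      false), (0, false), (0, false), (1, false), (0, true), (1, true), (0, true), (1, true), (0, false), (1,
      false)]⟩
  | (true, true, 0) => ⟨[(.r02, .w), (.r10, .v)], [(1, false), (1, false)], [(1, false), (0, false), (0, false),
      (1, false), (0, true), (1, true), (0, false), (1, false), (0, true), (1, false), (1, false), (0, true)], [(1,
      true), (0, true), (1, false), (0, false), (0, false), (1, false), (1, false), (0, true), (1, false), (0,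
      false)]⟩
  | _ => ⟨[], [], [], []⟩

/-- certificate for the inner involutions -/
def certI2 : Cert :=
  ⟨[(.r10, .o), (.r01, .w), (.r20, .o)], [(0, true), (0, true), (1, true), (0, true), (0, true), (1, true), (0,
      true), (1, false), (0, true), (0, true), (1, false)], [(1, true), (1, true), (0, true), (0, true), (1,
      false), (0, false), (1, true)], [(0, false), (1, false), (1, false), (0, false), (0, false), (1, true), (0,
      true), (1, false), (0, true)]⟩

/-- an element of order 5 -/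
def f5 : List Lt := [(.r01, .o), (.r10, .w)]

/-- an element of order 7 -/
def f7 : List Lt := [(.r01, .o), (.r12, .o), (.r20, .o)]

/-- certificate for the elements of order 5 -/
def certI5 : Cert :=
  ⟨[(.r12, .w), (.r20, .w)], [(0, false), (1, false), (0, false), (1, false), (0, false)], [(1, false), (0, true),
      (2, true), (0, true), (2, true), (1, true), (2, true)], [(0, false), (0, false), (1, true), (0, true), (2,
      true), (1, false), (2, false), (1, false)]⟩

/-- certificate for the elements of order 7 -/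
def certI7 : Cert :=
  ⟨[(.r01, .v), (.r12, .o)], [(0, false), (1, false), (1, false), (0, true), (2, false)], [(0, true), (2, false),
      (1, true), (0, true), (1, true), (0, false), (0, false)], [(0, false), (2, true), (1, false), (0, true), (1,
      false), (0, true)]⟩

/-- certificates for the elements of order 3 -/
def cert3 : Fin 3 → Fin 3 → Fin 3 → Cert
  | 0, 0, 1 => ⟨[(.r20, .w), (.r02, .o), (.r10, .v), (.r01, .v)], [(1, true), (0, false), (1, true), (2, false),
      (1, true), (2, false)], [(0, false), (0, false), (1, true), (1, true)], [(0, true), (2, false), (0, true),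
      (2, false), (0, false), (0, false)]⟩
  | 0, 0, 2 => ⟨[(.r20, .w), (.r02, .o), (.r10, .v), (.r01, .v)], [(1, true), (2, false), (1, true), (2, false),
      (0, true), (2, false)], [(0, false), (0, false), (2, true), (2, true)], [(0, true), (1, false), (0, true),
      (1, false), (0, false), (0, false)]⟩
  | 0, 1, 0 => ⟨[(.r01, .v), (.r12, .o)], [(0, false), (1, false), (0, false), (1, false), (2, true), (0, true),
      (2, true), (0, true)], [(0, false), (1, false), (0, false), (2, true), (1, false), (0, false), (1, false)],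
      [(0, false), (2, false), (1, false), (0, false)]⟩
  | 0, 1, 1 => ⟨[(.r10, .w), (.r01, .o)], [(1, false), (0, false), (1, true), (0, true), (2, false), (1, false)],
      [(0, false), (1, false), (0, false), (1, false), (0, true), (1, false), (2, true), (1, false), (0, true)],
      [(0, false), (0, false), (1, false), (0, true), (1, true), (2, true), (0, true), (0, true)]⟩
  | 0, 1, 2 => ⟨[(.r10, .v), (.r02, .w), (.r21, .v), (.r01, .o)], [(1, false), (0, false), (2, true), (0, false),
      (1, false), (0, false), (2, false)], [(0, false), (0, false), (2, true), (2, true)], [(2, true), (0, false),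
      (1, false), (1, false)]⟩
  | 0, 2, 0 => ⟨[(.r01, .v), (.r12, .w)], [(0, false), (0, false), (1, false), (1, false), (0, false), (0, false),
      (1, false), (1, false)], [(0, false), (1, false), (2, false), (1, false), (0, true), (2, false), (0, true)],
      [(0, false), (1, false), (2, false), (0, false)]⟩
  | 0, 2, 1 => ⟨[(.r10, .o), (.r21, .w), (.r02, .w)], [(1, true), (0, false), (2, false), (1, false), (1, false)],
      [(0, false), (0, false), (1, true), (1, true)], [(2, true), (1, false), (0, false), (0, false)]⟩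
  | 0, 2, 2 => ⟨[(.r02, .o), (.r21, .o), (.r12, .w)], [(0, false), (1, true), (0, false), (1, false), (0, true),
      (1, true), (0, false)], [(0, true), (1, false), (2, false), (0, true), (2, true), (0, true), (0, true)], [(1,
      false), (0, true), (0, true), (2, true), (0, false), (1, false), (2, true)]⟩
  | 1, 0, 0 => ⟨[(.r10, .o), (.r21, .w), (.r02, .w)], [(0, false), (0, false), (2, true), (0, false), (1, true),
      (1, true)], [(0, false), (2, false), (1, false), (0, false), (2, false), (1, false), (0, false)], [(0, true),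
      (2, true), (0, false), (2, false), (1, false), (0, false)]⟩
  | 1, 0, 1 => ⟨[(.r20, .w), (.r02, .o), (.r10, .v), (.r01, .v)], [(0, false), (0, false), (1, false), (0, true),
      (2, false), (1, false), (1, false)], [(0, true), (0, true), (2, false), (2, false)], [(0, false), (0, false),
      (2, false), (0, true), (2, false), (0, true)]⟩
  | 1, 0, 2 => ⟨[(.r10, .v), (.r02, .w), (.r10, .w), (.r21, .o)], [(0, false), (1, false), (1, false), (0, true),
      (0, true), (2, true)], [(0, true), (1, false), (0, false), (2, false), (0, false), (1, true), (2, true)],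
      [(0, true), (0, true), (2, true), (2, true), (1, true), (2, true), (0, true)]⟩
  | 1, 1, 0 => ⟨[(.r21, .o), (.r12, .w), (.r10, .w), (.r12, .w)], [(1, false), (1, false)], [(0, false), (1, true),
      (0, false), (2, false), (2, false), (1, true), (0, true)], [(0, true), (1, false), (0, true), (2, false), (0,
      true)]⟩
  | 1, 1, 1 => ⟨[(.r21, .o), (.r20, .v), (.r21, .w), (.r10, .v)], [(1, false), (1, false)], [(0, false), (1,
      false), (2, false), (0, false), (0, false), (2, true), (1, false)], [(2, false), (1, false), (0, false), (0,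
      false), (2, false), (1, false)]⟩
  | 1, 1, 2 => ⟨[(.r10, .o), (.r21, .w), (.r02, .w)], [(2, true), (0, false), (1, false), (2, false), (2, false)],
      [(0, false), (0, false), (2, true), (2, true)], [(1, true), (2, false), (0, false), (0, false)]⟩
  | 1, 2, 0 => ⟨[(.r21, .v), (.r20, .o), (.r21, .w), (.r10, .v)], [(2, false), (2, false)], [(0, false), (0,
      false), (1, false), (0, true), (1, false), (0, false), (1, true), (2, false)], [(0, true), (1, true), (0,
      false), (1, true), (0, false), (1, false)]⟩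
  | 1, 2, 1 => ⟨[(.r10, .v), (.r02, .w), (.r21, .v), (.r01, .o)], [(1, true), (0, true), (2, true), (0, true), (1,
      false), (0, true), (2, true)], [(0, false), (0, false), (1, true), (1, true)], [(1, true), (0, false), (2,
      false), (2, false)]⟩
  | 1, 2, 2 => ⟨[(.r02, .o), (.r10, .o)], [(1, false), (1, false)], [(0, false), (1, true), (2, true), (1, true),
      (0, false), (1, false), (0, false), (2, true)], [(0, true), (1, true), (0, true), (1, false), (0, false), (2,
      false)]⟩
  | 2, 0, 0 => ⟨[(.r10, .o), (.r21, .w), (.r02, .w)], [(0, false), (0, false), (1, true), (0, false), (2, true),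
      (2, true)], [(0, false), (1, false), (2, false), (0, false), (1, false), (2, false), (0, false)], [(0, true),
      (1, true), (0, false), (1, false), (2, false), (0, false)]⟩
  | 2, 0, 1 => ⟨[(.r10, .v), (.r02, .w), (.r10, .w), (.r21, .o)], [(0, false), (1, false), (0, true), (1, true),
      (0, true), (1, true)], [(0, true), (1, true), (0, true), (0, true), (1, true), (0, false), (1, true)], [(0,
      true), (0, true), (1, true), (1, true), (2, true), (1, true), (0, true)]⟩
  | 2, 0, 2 => ⟨[(.r20, .w), (.r02, .o), (.r10, .v), (.r01, .v)], [(0, false), (0, false), (1, true), (2, true),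
      (0, false), (1, true), (2, false)], [(0, true), (0, true), (1, false), (1, false)], [(0, false), (0, false),
      (1, false), (0, true), (1, false), (0, true)]⟩
  | 2, 1, 0 => ⟨[(.r01, .v), (.r12, .w)], [(0, false), (1, false), (0, false), (1, false), (2, true), (0, true),
      (2, true), (0, true)], [(0, false), (1, false), (0, false), (2, true), (1, false), (0, false), (1, false)],
      [(0, false), (1, true), (0, false), (2, true), (0, false)]⟩
  | 2, 1, 1 => ⟨[(.r01, .v), (.r10, .v), (.r02, .v)], [(1, true), (0, true), (1, true), (2, true), (1, false)],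
      [(0, false), (0, false), (2, true), (1, false), (2, true), (0, true), (1, false)], [(1, false), (1, false),
      (0, true), (1, true), (0, true), (0, true)]⟩
  | 2, 1, 2 => ⟨[(.r10, .v), (.r02, .w), (.r21, .v), (.r01, .o)], [(2, false), (1, true), (0, true), (2, true), (2,
      true)], [(0, true), (0, true), (1, false), (1, false)], [(0, false), (0, false), (1, false), (2, true)]⟩
  | 2, 2, 0 => ⟨[(.r21, .o), (.r12, .w), (.r10, .w), (.r12, .w)], [(2, false), (2, false)], [(0, false), (1,
      false), (0, false), (2, true), (1, false), (0, false), (1, false)], [(0, true), (1, false), (0, true), (2,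
      false), (0, true)]⟩
  | 2, 2, 1 => ⟨[(.r10, .v), (.r02, .w), (.r21, .v), (.r01, .o)], [(1, false), (1, false), (0, false), (2, false),
      (1, true)], [(0, true), (0, true), (2, false), (2, false)], [(0, false), (0, false), (2, false), (1, true)]⟩
  | 2, 2, 2 => ⟨[(.r01, .v), (.r10, .v), (.r02, .v)], [(0, true), (1, false), (0, true), (0, true), (1, false), (0,
      false), (1, true)], [(0, false), (1, false), (2, false), (1, false), (0, true), (1, true), (0, false)], [(1,
      true), (2, false), (0, false), (1, true), (0, true), (0, true), (2, false)]⟩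
  | _, _, _ => ⟨[], [], [], []⟩

theorem gw_ok : ∀ r : Rt, ∀ u : F4, u ≠ 0 → chk (fl G (gw r u)) [(r, u)] = true := by
  intro r
  cases r <;> decide +kernel

/-- `x₀₁(1)`, `h`, `c` generate -/
theorem top_of {K : Subgroup PSL3} (h0 : ev (G 0) ∈ K) (h1 : ev hl ∈ K) (h2 : ev cl ∈ K) : K = ⊤ := by
  have h : ∀ k, ev (G k) ∈ K
    | 0 => h0
    | 1 => h1
    | (k + 2) => h2
  rw [eq_top_iff, ← datPSL.gen, Subgroup.closure_le]
  rintro _ ⟨i, j, u, hij, rfl⟩
  by_cases hu : u = 0
  · rw [hu, datPSL.x_zero i j hij]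
    exact K.one_mem
  obtain ⟨r, rfl, rfl⟩ : ∃ r : Rt, i = r.i ∧ j = r.j := by
    revert i j
    have key : ∀ i j : Fin 3, i ≠ j → ∃ r ∈ ([.r01, .r02, .r12, .r10, .r20, .r21] : List Rt), i = r.i ∧ j = r.j := by
      decide
    intro i j hij
    obtain ⟨r, -, h⟩ := key i j hij
    exact ⟨r, h⟩
  have h3 := fl_mem h (gw r u)
  rw [ev_eq (gw_ok r u hu), ev_cons, ev_nil, mul_one] at h3
  exact h3

/-- the criterion for one automorphism -/
def Gd {L : Type*} [Group L] (a : MulAut L) : Prop := ∃ x : L, ∀ K : Subgroup L, x ∈ K → (∀ k ∈ K, a k ∈ K) → K = ⊤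

/-- the image of a letter -/
def im (τ : Ty) (e : Lt) : Lt := (if τ.2.1 then e.1.flip else e.1, pu τ e.1.i e.1.j e.2)

theorem im_spec (τ : Ty) (e : Lt) : imgx t τ e.1.i e.1.j e.2 = t (im τ e).1.i (im τ e).1.j (im τ e).2 := by
  obtain ⟨r, u⟩ := e
  obtain ⟨f, g, d⟩ := τ
  cases g
  · rfl
  · cases r <;> rfl

/-- the action on words -/
def actl (lg : List Lt) (τ : Ty) (l : List Lt) : List Lt := lg ++ l.map (im τ) ++ lg.reverse

/-- `a` acts as given by `lg`, `τ` -/
def Act (a : MulAut PSL3) (lg : List Lt) (τ : Ty) : Prop := ∀ l, a (ev l) = ev (actl lg τ l)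

theorem isTau_ev {β : MulAut PSL3} {τ : Ty} (h : datPSL.IsTau τ β) (l : List Lt) : β (ev l) = ev (l.map (im τ)) := by
  induction l with
  | nil => exact map_one β
  | cons e l ih =>
    rw [List.map_cons, ev_cons, ev_cons, map_mul, ih, ← im_spec]
    congr 1
    exact h _ _ (ij_ne e.1) e.2

theorem act_of {β : MulAut PSL3} {τ : Ty} (h : datPSL.IsTau τ β) (lg : List Lt) :
    Act (MulAut.conj (ev lg) * β) lg τ := by
  intro l
  rw [MulAut.mul_apply, isTau_ev h, MulAut.conj_apply, actl, ev_append, ev_append, ev_reverse]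

/-- the iterated images -/
def it (lg : List Lt) (τ : Ty) (lx : List Lt) : ℕ → List Lt
  | 0 => lx
  | n + 1 => actl lg τ (it lg τ lx n)

/-- the check of a certificate -/
def ok (lg : List Lt) (τ : Ty) (c : Cert) : Bool :=
  chk (fl (it lg τ c.lx) c.wx) (G 0) && chk (fl (it lg τ c.lx) c.wh) hl && chk (fl (it lg τ c.lx) c.wc) cl

theorem gd_of {a : MulAut PSL3} {lg : List Lt} {τ : Ty} (ha : Act a lg τ) {c : Cert} (hc : ok lg τ c = true) : Gd a := by
  refine ⟨ev c.lx, fun K hx hK => ?_⟩
  unfold ok at hc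
  rw [Bool.and_eq_true, Bool.and_eq_true] at hc
  have h : ∀ k, ev (it lg τ c.lx k) ∈ K := by
    intro k
    induction k with
    | zero => exact hx
    | succ k ih =>
      have h1 := hK _ ih
      rw [ha] at h1
      exact h1
  refine top_of ?_ ?_ ?_
  · rw [← ev_eq hc.1.1]
    exact fl_mem h _
  · rw [← ev_eq hc.1.2]
    exact fl_mem h _
  · rw [← ev_eq hc.2]
    exact fl_mem h _

theorem cert2_ok : ∀ τ : Ty, τ ≠ ty1 → τ.mul τ = ty1 → ok [] τ (cert2 τ) = true := by decide +kernel

theorem certI2_ok : ok [(.r02, .o)] ty1 certI2 = true := by decide +kernel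

theorem certI5_ok : ok f5 ty1 certI5 = true := by decide +kernel

theorem certI7_ok : ok f7 ty1 certI7 = true := by decide +kernel

/-- powers of words -/
def pw (l : List Lt) : ℕ → List Lt
  | 0 => []
  | n + 1 => l ++ pw l n

theorem ev_pw (l : List Lt) (n : ℕ) : ev (pw l n) = ev l ^ n := by
  induction n with
  | zero => rw [pow_zero]; rfl
  | succ n ih => rw [pw, ev_append, ih, pow_succ']

theorem cert3_ok : ∀ i j k : Fin 3, (i, j, k) ≠ (0, 0, 0) →
    ok (pw hl i ++ pw cl j) (false, false, k) (cert3 i j k) = true := by decide +kernel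

/-! ### The Sylow 3-subgroup of the automorphism group -/

theorem ev_hl : ev hl = hh := by
  have h := hh_eq 0 1 (by decide)
  rw [← h]
  simp only [ev, hl, List.map_cons, List.map_nil, List.prod_cons, List.prod_nil, mul_one, mul_assoc]
  rfl

/-- `diag(ω, 1, ω)` -/
def dA : GL (Fin 3) F4 :=
  ⟨!![F4.w, 0, 0; 0, 1, 0; 0, 0, F4.w], !![F4.v, 0, 0; 0, 1, 0; 0, 0, F4.v], by decide +kernel, by decide +kernel⟩

/-- the diagonal automorphism -/
noncomputable def bt : MulAut PSL3 :=
  Cfsg.Agent.ClassicalGeometry.AutPSL.Auto.lift (Cfsg.Agent.ClassicalGeometry.AutPSL.Auto.cj dA)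

theorem dA_tm : ∀ (i j : Fin 3) (u : F4), i ≠ j →
    (!![F4.w, 0, 0; 0, 1, 0; 0, 0, F4.w] : Matrix (Fin 3) (Fin 3) F4) * tm i j u *
      !![F4.v, 0, 0; 0, 1, 0; 0, 0, F4.v] = tm i j (pu (false, false, 1) i j u) := by decide +kernel

theorem isTau_bt : datPSL.IsTau (false, false, 1) bt := by
  intro i j hij u
  have h1 : (Cfsg.Agent.ClassicalGeometry.AutPSL.Auto.cj dA (T i j u) : SL3) = T i j (pu (false, false, 1) i j u) :=
    Subtype.ext (dA_tm i j u hij)
  have h2 : bt (t i j u) = (QuotientGroup.mk (Cfsg.Agent.ClassicalGeometry.AutPSL.Auto.cj dA (T i j u)) : PSL3) := rfl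
  show bt (t i j u) = _
  rw [h2, h1]
  rfl

/-- the type of the powers -/
def tk (k : ℕ) : Ty := (false, false, (Fin.ofNat 3 k))

theorem tk_mul (k : ℕ) : Ty.mul (tk k) (false, false, 1) = tk (k + 1) := by
  have h : ∀ a : Fin 3, Ty.mul (false, false, a) (false, false, 1) = (false, false, a + 1) := by decide
  rw [tk, h, tk]
  congr 2
  apply Fin.ext
  simp [Fin.ofNat, Fin.val_add]

theorem isTau_bt_pow (k : ℕ) : datPSL.IsTau (tk k) (bt ^ k) := by
  induction k with
  | zero =>
    rw [pow_zero]
    exact Dat.isTau_one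
  | succ k ih =>
    rw [pow_succ, ← tk_mul]
    exact Dat.IsTau.mul ih isTau_bt

theorem bt_pow_three : bt ^ 3 = 1 := Dat.IsTau.ext (isTau_bt_pow 3) Dat.isTau_one

theorem bt_h : bt (ev hl) = ev hl := by
  rw [isTau_ev isTau_bt]
  exact ev_eq (by decide +kernel)

theorem bt_c : bt (ev cl) = ev hl ^ 2 * ev cl := by
  rw [isTau_ev isTau_bt, ← ev_pw, ← ev_append]
  exact ev_eq (by decide +kernel)

theorem hc : ev hl * ev cl = ev cl * ev hl := by
  rw [← ev_append, ← ev_append]
  exact ev_eq (by decide +kernel)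

theorem h3 : ev hl ^ 3 = 1 := by
  rw [← ev_pw, ← ev_nil]
  exact ev_eq (by decide +kernel)

theorem c3 : ev cl ^ 3 = 1 := by
  rw [← ev_pw, ← ev_nil]
  exact ev_eq (by decide +kernel)

theorem bt_pow_h (k : ℕ) : (bt ^ k) (ev hl) = ev hl := by
  induction k with
  | zero => rfl
  | succ k ih => rw [pow_succ, MulAut.mul_apply, bt_h, ih]

theorem bt_pow_c (k : ℕ) : (bt ^ k) (ev cl) = ev hl ^ (2 * k) * ev cl := by
  induction k with
  | zero => rw [mul_zero, pow_zero, pow_zero, one_mul]; rfl
  | succ k ih =>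
    rw [pow_succ, MulAut.mul_apply, bt_c, map_mul, map_pow, bt_pow_h, ih, ← mul_assoc, ← pow_add]
    congr 2
    ring

/-- the elements of the Sylow subgroup -/
noncomputable def el3 (i j k : ℕ) : MulAut PSL3 := MulAut.conj (ev hl ^ i * ev cl ^ j) * bt ^ k

theorem hcc : Commute (ev hl) (ev cl) := hc

theorem el3_mul (i j k i' j' k' : ℕ) : el3 i j k * el3 i' j' k' = el3 (i + (i' + 2 * k * j')) (j + j') (k + k') := by
  have h1 : bt ^ k * MulAut.conj (ev hl ^ i' * ev cl ^ j') = MulAut.conj ((bt ^ k) (ev hl ^ i' * ev cl ^ j')) * bt ^ k := by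
    rw [Dat.conj_map, inv_mul_cancel_right]
  have h2 : (bt ^ k) (ev hl ^ i' * ev cl ^ j') = ev hl ^ (i' + 2 * k * j') * ev cl ^ j' := by
    rw [map_mul, map_pow, map_pow, bt_pow_h, bt_pow_c, (hcc.pow_left (2 * k)).mul_pow, ← pow_mul, ← mul_assoc, ← pow_add]
  have h3 : ev hl ^ i * ev cl ^ j * (ev hl ^ (i' + 2 * k * j') * ev cl ^ j') =
      ev hl ^ (i + (i' + 2 * k * j')) * ev cl ^ (j + j') := by
    have h4 : ev cl ^ j * ev hl ^ (i' + 2 * k * j') = ev hl ^ (i' + 2 * k * j') * ev cl ^ j :=
      ((hcc.pow_left _).pow_right _).eq.symm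
    calc ev hl ^ i * ev cl ^ j * (ev hl ^ (i' + 2 * k * j') * ev cl ^ j') =
        ev hl ^ i * (ev cl ^ j * ev hl ^ (i' + 2 * k * j')) * ev cl ^ j' := by simp only [mul_assoc]
      _ = ev hl ^ i * (ev hl ^ (i' + 2 * k * j') * ev cl ^ j) * ev cl ^ j' := by rw [h4]
      _ = (ev hl ^ i * ev hl ^ (i' + 2 * k * j')) * (ev cl ^ j * ev cl ^ j') := by simp only [mul_assoc]
      _ = _ := by rw [← pow_add, ← pow_add]
  unfold el3
  calc MulAut.conj (ev hl ^ i * ev cl ^ j) * bt ^ k * (MulAut.conj (ev hl ^ i' * ev cl ^ j') * bt ^ k') =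
      MulAut.conj (ev hl ^ i * ev cl ^ j) * (bt ^ k * MulAut.conj (ev hl ^ i' * ev cl ^ j')) * bt ^ k' := by
        simp only [mul_assoc]
    _ = MulAut.conj (ev hl ^ i * ev cl ^ j) * (MulAut.conj (ev hl ^ (i' + 2 * k * j') * ev cl ^ j') * bt ^ k) * bt ^ k' := by
        rw [h1, h2]
    _ = MulAut.conj (ev hl ^ i * ev cl ^ j * (ev hl ^ (i' + 2 * k * j') * ev cl ^ j')) * (bt ^ k * bt ^ k') := by
        rw [map_mul (MulAut.conj : PSL3 →* MulAut PSL3) (ev hl ^ i * ev cl ^ j)]
        simp only [mul_assoc]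
    _ = _ := by rw [h3, ← pow_add]

theorem el3_zero : el3 0 0 0 = 1 := by
  unfold el3
  rw [pow_zero, pow_zero, pow_zero, mul_one, mul_one, map_one]

theorem pow_mod_three {M : Type*} [Monoid M] {x : M} (h : x ^ 3 = 1) (n : ℕ) : x ^ n = x ^ (n % 3) := by
  conv_lhs => rw [← Nat.div_add_mod n 3, pow_add, pow_mul, h, one_pow, one_mul]

theorem el3_mod (i j k : ℕ) : el3 i j k = el3 (i % 3) (j % 3) (k % 3) := by
  unfold el3
  rw [pow_mod_three h3 i, pow_mod_three c3 j, pow_mod_three bt_pow_three k]

theorem el3_inv (i j k : ℕ) : (el3 i j k)⁻¹ = el3 (2 * i + 2 * k * j) (2 * j) (2 * k) := by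
  apply inv_eq_of_mul_eq_one_right
  rw [el3_mul, el3_mod, ← el3_zero]
  congr 1
  · have : i + (2 * i + 2 * k * j + 2 * k * (2 * j)) = 3 * (i + 2 * k * j) := by ring
    rw [this, Nat.mul_mod_right]
  · omega
  · omega

/-- the Sylow subgroup -/
def P3 : Subgroup (MulAut PSL3) where
  carrier := {a | ∃ i j k, a = el3 i j k}
  one_mem' := ⟨0, 0, 0, el3_zero.symm⟩
  mul_mem' := by
    rintro _ _ ⟨i, j, k, rfl⟩ ⟨i', j', k', rfl⟩
    exact ⟨_, _, _, el3_mul _ _ _ _ _ _⟩
  inv_mem' := by
    rintro _ ⟨i, j, k, rfl⟩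
    exact ⟨_, _, _, el3_inv _ _ _⟩

theorem t02_ne : t 0 2 1 ≠ 1 := by
  intro h
  have h1 : datPSL.el ⟨0, 0, 1⟩ = datPSL.el cone := by
    rw [Dat.el_x02, Dat.el_one]
    exact h
  exact absurd (datPSL.inj h1) (by decide)

theorem not_gd_one : ¬ Gd (1 : MulAut PSL3) := by
  rintro ⟨x, hx⟩
  have h1 := hx (Subgroup.zpowers x) (Subgroup.mem_zpowers x) (fun k hk => hk)
  have h2 : ∀ y : PSL3, ∃ n : ℤ, x ^ n = y := fun y => Subgroup.mem_zpowers_iff.1 (by rw [h1]; exact Subgroup.mem_top y)
  obtain ⟨m, hm⟩ := h2 (t 0 1 1)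
  obtain ⟨n, hn⟩ := h2 (t 1 2 1)
  have h3 := t_sum 0 2 1 1 1 (by decide) (by decide) (by decide)
  have h4 : t 0 1 1 * t 1 2 1 = t 1 2 1 * t 0 1 1 := by
    rw [← hm, ← hn, ← _root_.zpow_add, ← _root_.zpow_add, add_comm]
  rw [h4, mul_one] at h3
  exact t02_ne (mul_eq_left.1 h3.symm)

theorem gd_el3 {i j k : Fin 3} (h : (i, j, k) ≠ (0, 0, 0)) : Gd (el3 i j k) := by
  have h1 := act_of (isTau_bt_pow (k : ℕ)) (pw hl i ++ pw cl j)
  rw [ev_append, ev_pw, ev_pw] at h1
  have h2 : tk (k : ℕ) = (false, false, k) := by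
    revert k
    intro k _ _
    fin_cases k <;> rfl
  rw [h2] at h1
  exact gd_of h1 (cert3_ok i j k h)

theorem el3_eq_one {i j k : ℕ} (h : el3 i j k = 1) : i % 3 = 0 ∧ j % 3 = 0 ∧ k % 3 = 0 := by
  by_contra hcon
  rw [el3_mod] at h
  have h1 := gd_el3 (i := ⟨i % 3, Nat.mod_lt _ (by norm_num)⟩) (j := ⟨j % 3, Nat.mod_lt _ (by norm_num)⟩)
    (k := ⟨k % 3, Nat.mod_lt _ (by norm_num)⟩) (fun h2 => hcon ?_)
  · change Gd (el3 (i % 3) (j % 3) (k % 3)) at h1
    rw [h] at h1
    exact not_gd_one h1
  · rw [Prod.mk.injEq, Prod.mk.injEq] at h2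
    exact ⟨congrArg Fin.val h2.1, congrArg Fin.val h2.2.1, congrArg Fin.val h2.2.2⟩

theorem card_P3 : Nat.card P3 = 27 := by
  have h : Function.Bijective (fun q : Fin 3 × Fin 3 × Fin 3 => (⟨el3 q.1 q.2.1 q.2.2, _, _, _, rfl⟩ : P3)) := by
    constructor
    · rintro ⟨i, j, k⟩ ⟨i', j', k'⟩ h
      have h1 : el3 i j k = el3 i' j' k' := congrArg Subtype.val h
      have h2 : el3 i j k * (el3 i' j' k')⁻¹ = 1 := by rw [h1, mul_inv_cancel]
      rw [el3_inv, el3_mul] at h2
      have h3 := el3_eq_one h2
      clear h h1 h2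
      revert h3
      revert i j k i' j' k'
      decide +kernel
    · rintro ⟨_, i, j, k, rfl⟩
      refine ⟨(⟨i % 3, Nat.mod_lt _ (by norm_num)⟩, ⟨j % 3, Nat.mod_lt _ (by norm_num)⟩,
        ⟨k % 3, Nat.mod_lt _ (by norm_num)⟩), Subtype.ext ?_⟩
      exact (el3_mod i j k).symm
  rw [← Nat.card_congr (Equiv.ofBijective _ h)]
  simp

/-! ### The order of the automorphism group -/

instance : Finite (MulAut PSL3) := inferInstance

theorem card_aut : Nat.card (MulAut PSL3) ∣ 241920 := by
  have h1 := datPSL.tyHom.ker.card_mul_index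
  rw [Dat.ker_tyHom] at h1
  have h2 : Nat.card (MulAut.conj : PSL3 →* MulAut PSL3).range = 20160 := by
    rw [← datPSL.card]
    exact (Nat.card_congr (MonoidHom.ofInjective datPSL.conj_injective).toEquiv).symm
  have h3 : (MulAut.conj : PSL3 →* MulAut PSL3).range.index ∣ 12 := by
    rw [← Dat.ker_tyHom (A := datPSL), Subgroup.index_ker, ← TyG.card_tyG]
    exact Subgroup.card_subgroup_dvd_card _
  rw [← h1, h2]
  exact (mul_dvd_mul_left 20160 h3).trans (by norm_num)

/-- an element of `p`-power order is conjugate into a subgroup of order `pⁿ`, `p ^ (n + 1) ∤ 241920` -/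
theorem exists_conj_mem {p n : ℕ} [Fact p.Prime] (P : Subgroup (MulAut PSL3)) (hP : Nat.card P = p ^ n)
    (hn : ¬ p ^ (n + 1) ∣ 241920) {b : MulAut PSL3} (hb : orderOf b = p) : ∃ g, g * b * g⁻¹ ∈ P := by
  have hp := (Fact.out : p.Prime)
  have h0 : Nat.card (MulAut PSL3) ≠ 0 := Nat.card_pos.ne'
  have h1 : p ^ n ∣ Nat.card (MulAut PSL3) := by
    rw [← hP]
    exact P.card_subgroup_dvd_card
  have h2 : ¬ p ^ (n + 1) ∣ Nat.card (MulAut PSL3) := fun h => hn (h.trans card_aut)
  have h3 : (Nat.card (MulAut PSL3)).factorization p = n := by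
    have h4 := (hp.pow_dvd_iff_le_factorization h0).1 h1
    have h5 : ¬ n + 1 ≤ (Nat.card (MulAut PSL3)).factorization p := fun h => h2 ((hp.pow_dvd_iff_le_factorization h0).2 h)
    omega
  let S : Sylow p (MulAut PSL3) := Sylow.ofCard P (by rw [hP, h3])
  have hz : IsPGroup p (Subgroup.zpowers b) := IsPGroup.of_card (n := 1) (by rw [Nat.card_zpowers, hb, pow_one])
  obtain ⟨Q, hQ⟩ := hz.exists_le_sylow
  obtain ⟨g, hg⟩ := MulAction.exists_smul_eq (MulAut PSL3) Q S
  refine ⟨g, ?_⟩
  have h4 : g * b * g⁻¹ ∈ (g • Q : Sylow p (MulAut PSL3)) := by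
    rw [← SetLike.mem_coe, Sylow.coe_smul]
    exact Set.smul_mem_smul_set (a := MulAut.conj g) (hQ (Subgroup.mem_zpowers b))
  rw [hg] at h4
  exact h4

/-! ### The main theorem -/

section gd

variable {L : Type*} [Group L]

theorem Gd.conj {a g : MulAut L} (h : Gd (g * a * g⁻¹)) : Gd a := by
  obtain ⟨x, hx⟩ := h
  refine ⟨g⁻¹ x, fun K hxK hK => ?_⟩
  have h1 := hx (K.map g.toMonoidHom) ⟨g⁻¹ x, hxK, MulAut.apply_inv_self L g x⟩ (by
    rintro _ ⟨k, hk, rfl⟩
    refine ⟨a k, hK k hk, ?_⟩
    show g (a k) = g (a (g⁻¹ (g k)))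
    rw [MulAut.inv_apply_self])
  rw [eq_top_iff]
  intro y _
  have h2 : g y ∈ K.map g.toMonoidHom := by rw [h1]; exact Subgroup.mem_top _
  obtain ⟨k, hk, hky⟩ := h2
  have h3 : k = y := g.injective hky
  rw [← h3]
  exact hk

theorem Gd.of_pow {a : MulAut L} {n : ℕ} (h : Gd (a ^ n)) : Gd a := by
  obtain ⟨x, hx⟩ := h
  refine ⟨x, fun K hxK hK => hx K hxK fun k hk => ?_⟩
  have h1 : ∀ n : ℕ, (a ^ n) k ∈ K := by
    intro n
    induction n with
    | zero => exact hk
    | succ n ih =>
      rw [pow_succ', MulAut.mul_apply]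
      exact hK _ ih
  exact h1 n

theorem Gd.of_mem_zpowers [Finite L] {a b : MulAut L} (h : Gd b) (hb : b ∈ Subgroup.zpowers a) : Gd a := by
  obtain ⟨n, hn⟩ := (mem_powers_iff_mem_zpowers.2 hb : b ∈ Submonoid.powers a)
  have hn' : a ^ n = b := hn
  exact Gd.of_pow (n := n) (by rw [hn']; exact h)

end gd

theorem gd_cyc {p : ℕ} [Fact p.Prime] (hp2 : ¬ p ^ 2 ∣ 241920) {f : List Lt} (hf : chk (pw f p) [] = true) {c : Cert}
    (hc : ok f ty1 c = true) {b : MulAut PSL3} (hb : orderOf b = p) : Gd b := by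
  have hp := (Fact.out : p.Prime)
  have hG : Gd (MulAut.conj (ev f)) := by
    have h1 := act_of Dat.isTau_one f
    rw [mul_one] at h1
    exact gd_of h1 hc
  have ho : orderOf (MulAut.conj (ev f)) = p := by
    refine orderOf_eq_prime ?_ ?_
    · rw [← map_pow, ← ev_pw, ev_eq hf, ev_nil, map_one]
    · intro h
      rw [h] at hG
      exact not_gd_one hG
  obtain ⟨g, hg⟩ := exists_conj_mem (n := 1) (Subgroup.zpowers (MulAut.conj (ev f))) (by rw [Nat.card_zpowers, ho, pow_one])
    hp2 hb
  refine Gd.conj (g := g) (Gd.of_mem_zpowers hG ?_)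
  have h1 : Subgroup.zpowers (g * b * g⁻¹) = Subgroup.zpowers (MulAut.conj (ev f)) := by
    apply Subgroup.eq_of_le_of_card_ge
    · rwa [Subgroup.zpowers_le]
    · rw [Nat.card_zpowers, Nat.card_zpowers, ho]
      have h2 : orderOf (g * b * g⁻¹) = orderOf b := by
        rw [← MulAut.conj_apply, MulEquiv.orderOf_eq]
      rw [h2, hb]
  rw [h1]
  exact Subgroup.mem_zpowers _

theorem gd_two {b : MulAut PSL3} (h1 : b ≠ 1) (h2 : b * b = 1) : Gd b := by
  obtain ⟨l, ⟨τ, hτ1, hτ⟩ | h⟩ := datPSL.inv_class b h1 h2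
  · refine Gd.conj (g := MulAut.conj l) ?_
    have h3 : MulAut.conj l * b * (MulAut.conj l)⁻¹ * (MulAut.conj l * b * (MulAut.conj l)⁻¹) = 1 := by
      calc _ = MulAut.conj l * (b * b) * (MulAut.conj l)⁻¹ := by group
        _ = 1 := by rw [h2]; group
    have h4 := Dat.IsTau.mul hτ hτ
    rw [h3] at h4
    have h5 : datPSL.IsTau (τ.mul τ) (MulAut.conj 1 * 1) := by rwa [map_one, one_mul]
    have h6 := act_of hτ []
    rw [ev_nil, map_one, one_mul] at h6
    exact gd_of h6 (cert2_ok τ hτ1 (Dat.IsTau.unique Dat.isTau_one h5).1)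
  · refine Gd.conj (g := MulAut.conj l) ?_
    rw [h]
    have h3 := act_of Dat.isTau_one [(.r02, .o)]
    rw [mul_one, ev_cons, ev_nil, mul_one] at h3
    exact gd_of h3 certI2_ok

theorem gd_three {b : MulAut PSL3} (hb : orderOf b = 3) : Gd b := by
  have : Fact (Nat.Prime 3) := ⟨Nat.prime_three⟩
  obtain ⟨g, i, j, k, hg⟩ := exists_conj_mem (p := 3) (n := 3) P3 (by rw [card_P3]; norm_num) (by norm_num) hb
  refine Gd.conj (g := g) ?_
  rw [hg, el3_mod]
  refine gd_el3 (i := ⟨i % 3, Nat.mod_lt _ (by norm_num)⟩) (j := ⟨j % 3, Nat.mod_lt _ (by norm_num)⟩)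
    (k := ⟨k % 3, Nat.mod_lt _ (by norm_num)⟩) fun h => ?_
  rw [Prod.mk.injEq, Prod.mk.injEq] at h
  have hi : i % 3 = 0 := congrArg Fin.val h.1
  have hj : j % 3 = 0 := congrArg Fin.val h.2.1
  have hk : k % 3 = 0 := congrArg Fin.val h.2.2
  rw [el3_mod, hi, hj, hk, el3_zero] at hg
  have h2 : b = 1 := by
    calc b = g⁻¹ * (g * b * g⁻¹) * g := by group
      _ = 1 := by rw [hg]; group
  rw [h2, orderOf_one] at hb
  norm_num at hb

theorem chk_f5 : chk (pw f5 5) [] = true := by decide +kernel

theorem chk_f7 : chk (pw f7 7) [] = true := by decide +kernel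

theorem spr_PSL3 : Spr PSL3 := by
  intro a ha
  change Gd a
  obtain ⟨p, hp, n, hn⟩ := Nat.exists_prime_and_dvd (n := orderOf a) (fun h => ha (orderOf_eq_one_iff.1 h))
  have hf : Fact p.Prime := ⟨hp⟩
  have hn0 : n ≠ 0 := by
    rintro rfl
    exact (orderOf_pos a).ne' hn
  have hb : orderOf (a ^ n) = p := by
    rw [orderOf_pow_of_dvd hn0 ⟨p, by rw [hn, mul_comm]⟩, hn, Nat.mul_div_cancel _ (Nat.pos_of_ne_zero hn0)]
  refine Gd.of_pow (n := n) ?_
  have h1 : p ∣ 241920 := by
    rw [← hb]
    exact (orderOf_dvd_natCard _).trans card_aut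
  have h2 : p = 2 ∨ p = 3 ∨ p = 5 ∨ p = 7 := by
    rw [show 241920 = 2 ^ 8 * 3 ^ 3 * 5 * 7 by norm_num] at h1
    rcases hp.dvd_mul.1 h1 with h | h
    · rcases hp.dvd_mul.1 h with h | h
      · rcases hp.dvd_mul.1 h with h | h
        · exact Or.inl ((Nat.prime_dvd_prime_iff_eq hp Nat.prime_two).1 (hp.dvd_of_dvd_pow h))
        · exact Or.inr (Or.inl ((Nat.prime_dvd_prime_iff_eq hp Nat.prime_three).1 (hp.dvd_of_dvd_pow h)))
      · exact Or.inr (Or.inr (Or.inl ((Nat.prime_dvd_prime_iff_eq hp Nat.prime_five).1 h)))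
    · exact Or.inr (Or.inr (Or.inr ((Nat.prime_dvd_prime_iff_eq hp (by norm_num)).1 h)))
  rcases h2 with rfl | rfl | rfl | rfl
  · have h3 : (a ^ n) ^ 2 = 1 := by
      rw [← hb]
      exact pow_orderOf_eq_one _
    refine gd_two (fun h => ?_) (by rw [← pow_two, h3])
    rw [h, orderOf_one] at hb
    norm_num at hb
  · exact gd_three hb
  · exact gd_cyc (by norm_num) chk_f5 certI5_ok hb
  · exact gd_cyc (by norm_num) chk_f7 certI7_ok hb

end Cfsg.Agent.H855.Spr.L34

namespace Cfsg.Agent.H855.Spr

open Cfsg Cfsg.Agent.H424.Spr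

/-- **`L₃(4)`** -/
theorem spr_three_four {F : Type*} [Field F] [Fintype F] (hF : Fintype.card F = 4) :
    Spr (Matrix.ProjectiveSpecialLinearGroup (Fin 3) F) := by
  obtain ⟨e⟩ := Cfsg.Agent.SporadicA.FieldFour.nonempty_psl_equiv (n := Fin 3) F hF
  exact Spr.congr e L34.spr_PSL3

/-- **`L₃(2)`** -/
theorem spr_three_two {F : Type*} [Field F] [Fintype F] (hF : Fintype.card F = 2) :
    Spr (Matrix.ProjectiveSpecialLinearGroup (Fin 3) F) := by
  have : Fact (Nat.Prime 7) := ⟨by norm_num⟩
  obtain ⟨e⟩ := Cfsg.Agent.S0255.result (F := ZMod 7) (K := F) (ZMod.card 7) hF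
  exact Spr.congr e (Cfsg.Agent.H947.Spr.spr_psl2 (F := ZMod 7) (by rw [ZMod.card]; norm_num))

/-- **`L₄(2)`** -/
theorem spr_four_two {F : Type*} [Field F] [Fintype F] (hF : Fintype.card F = 2) :
    Spr (Matrix.ProjectiveSpecialLinearGroup (Fin 4) F) := by
  obtain ⟨e⟩ := Cfsg.Agent.S0256.result (F := F) hF
  refine Spr.congr e.symm (Cfsg.Agent.H424.SprAlt.row_alternating ?_ ⟨8, by norm_num, ⟨MulEquiv.refl _⟩⟩)
  refine ⟨⟨Equiv.swap 0 1 * Equiv.swap 1 2, Equiv.Perm.mem_alternatingGroup.2 (by decide)⟩,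
    ⟨Equiv.swap 0 1 * Equiv.swap 1 3, Equiv.Perm.mem_alternatingGroup.2 (by decide)⟩, fun h => ?_⟩
  have h1 := congrArg (fun g : alternatingGroup (Fin 8) => (g : Equiv.Perm (Fin 8)) 0) h
  revert h1
  decide

end Cfsg.Agent.H855.Spr
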